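import Cfsg.Agent.H996.L16.Calc

/-!
# Certificates for systems of polynomial equations over a field of characteristic two (helper996, for S5916)

`Tr` : case distinctions `x v = 0` / `x v ≠ 0`; at a leaf a relation which reduces to one monomial in non-zero variables, or a
group of variables which all vanish. `refute`.
-/

set_option autoImplicit false

namespace Cfsg.Agent.H996.L16

/-- trees: `r i` relation `i`, `g i` group `i`, `n v s t` : `s` if `x v = 0`, `t` if `x v ≠ 0` -/
inductive Tr : Type
  | r (i : ℕ) : Tr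
  | g (i : ℕ) : Tr
  | n (v : ℕ) (s t : Tr) : Tr

/-- membership -/
def memB (v : ℕ) : List ℕ → Bool
  | [] => false
  | a :: l => Nat.beq v a || memB v l

theorem mem_of_memB {v : ℕ} : ∀ {l : List ℕ}, memB v l = true → v ∈ l
  | [], h => by simp [memB] at h
  | a :: l, h => by
    rw [memB, Bool.or_eq_true] at h
    rcases h with h | h
    · rw [Nat.eq_of_beq_eq_true h]
      exact List.mem_cons_self
    · exact List.mem_cons_of_mem _ (mem_of_memB h)

/-- the monomial contains a variable of `Z` -/
def mz (Z : List ℕ) : ℕ → List ℕ → Bool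
  | _, [] => false
  | i, a :: m => (!(Nat.beq a 0) && memB i Z) || mz Z (i + 1) m

/-- all variables of the monomial are in `N` -/
def mn (N : List ℕ) : ℕ → List ℕ → Bool
  | _, [] => true
  | i, a :: m => (Nat.beq a 0 || memB i N) && mn N (i + 1) m

variable {K : Type*} [Field K] (x : ℕ → K)

theorem evM_zero {Z : List ℕ} (hZ : ∀ v ∈ Z, x v = 0) : ∀ (m : List ℕ) (i : ℕ), mz Z i m = true → evM x i m = 0
  | [], i, h => by simp [mz] at h
  | a :: m, i, h => by
    rw [mz, Bool.or_eq_true] at h
    rw [evM]
    rcases h with h | h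
    · rw [Bool.and_eq_true] at h
      have ha : a ≠ 0 := by
        rintro rfl
        exact absurd h.1 (by decide)
      rw [hZ i (mem_of_memB h.2), zero_pow ha, zero_mul]
    · rw [evM_zero hZ m (i + 1) h, mul_zero]

theorem evM_ne {N : List ℕ} (hN : ∀ v ∈ N, x v ≠ 0) : ∀ (m : List ℕ) (i : ℕ), mn N i m = true → evM x i m ≠ 0
  | [], i, h => one_ne_zero
  | a :: m, i, h => by
    rw [mn, Bool.and_eq_true, Bool.or_eq_true] at h
    rw [evM]
    refine mul_ne_zero ?_ (evM_ne hN m (i + 1) h.2)
    rcases h.1 with h1 | h1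
    · rw [Nat.eq_of_beq_eq_true h1, pow_zero]
      exact one_ne_zero
    · exact pow_ne_zero _ (hN i (mem_of_memB h1))

/-- remove the vanishing monomials -/
def filt (Z : List ℕ) : List (List ℕ) → List (List ℕ)
  | [] => []
  | m :: p => if mz Z 0 m = true then filt Z p else m :: filt Z p

theorem evP_filt {Z : List ℕ} (hZ : ∀ v ∈ Z, x v = 0) : ∀ p : List (List ℕ), evP x (filt Z p) = evP x p
  | [] => rfl
  | m :: p => by
    rw [filt]
    split_ifs with h
    · rw [evP_filt hZ p, evP, evP, List.map_cons, List.sum_cons, evM_zero x hZ m 0 h, zero_add]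
    · have h1 := evP_filt hZ p
      rw [evP, evP] at h1
      rw [evP, evP, List.map_cons, List.sum_cons, h1, List.map_cons, List.sum_cons]

/-- exactly one monomial, in non-zero variables -/
def one1 (N : List ℕ) : List (List ℕ) → Bool
  | [m] => mn N 0 m
  | _ => false

theorem ne_of_one1 {N : List ℕ} (hN : ∀ v ∈ N, x v ≠ 0) : ∀ {p : List (List ℕ)}, one1 N p = true → evP x p ≠ 0
  | [], h => by simp [one1] at h
  | [m], h => by
    rw [evP, List.map_cons, List.map_nil, List.sum_cons, List.sum_nil, add_zero]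
    exact evM_ne x hN m 0 h
  | _ :: _ :: _, h => by simp [one1] at h

/-- all elements of the group are in `Z` -/
def allZ (Z : List ℕ) : List ℕ → Bool
  | [] => true
  | v :: l => memB v Z && allZ Z l

theorem zero_of_allZ {Z : List ℕ} (hZ : ∀ v ∈ Z, x v = 0) : ∀ {l : List ℕ}, allZ Z l = true → ∀ v ∈ l, x v = 0
  | [], _, v, hv => absurd hv List.not_mem_nil
  | a :: l, h, v, hv => by
    rw [allZ, Bool.and_eq_true] at h
    rcases List.mem_cons.1 hv with rfl | hv
    · exact hZ _ (mem_of_memB h.1)
    · exact zero_of_allZ hZ h.2 v hv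

/-- the test: relations `ps`, groups `gs` -/
def Tr.chk (ps : List (List (List ℕ))) (gs : List (List ℕ)) : List ℕ → List ℕ → Tr → Bool
  | Z, N, .r i => one1 N (filt Z (ps.getD i []))
  | Z, _, .g i => (match gs[i]? with
    | none => false
    | some l => allZ Z l)
  | Z, N, .n v s t => s.chk ps gs (v :: Z) N && t.chk ps gs Z (v :: N)

/-- **the certificate** -/
theorem Tr.refute {ps : List (List (List ℕ))} {gs : List (List ℕ)} (hp : ∀ p ∈ ps, evP x p = 0)
    (hg : ∀ l ∈ gs, ∃ v ∈ l, x v ≠ 0) : ∀ (t : Tr) (Z N : List ℕ), (∀ v ∈ Z, x v = 0) → (∀ v ∈ N, x v ≠ 0) →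
    t.chk ps gs Z N = true → False
  | .r i, Z, N, hZ, hN, h => by
    rw [Tr.chk] at h
    refine ne_of_one1 x hN h ?_
    rw [evP_filt x hZ]
    by_cases hi : i < ps.length
    · rw [List.getD_eq_getElem _ _ hi]
      exact hp _ (List.getElem_mem hi)
    · rw [List.getD_eq_default _ _ (not_lt.1 hi)]
      rfl
  | .g i, Z, N, hZ, hN, h => by
    rw [Tr.chk] at h
    split at h
    · exact absurd h (by decide)
    · rename_i l hl
      obtain ⟨v, hv, h1⟩ := hg l (List.mem_of_getElem? hl)
      exact h1 (zero_of_allZ x hZ h v hv)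
  | .n v s t, Z, N, hZ, hN, h => by
    rw [Tr.chk, Bool.and_eq_true] at h
    by_cases h0 : x v = 0
    · exact Tr.refute hp hg s (v :: Z) N (fun w hw => by
        rcases List.mem_cons.1 hw with rfl | hw
        · exact h0
        · exact hZ w hw) hN h.1
    · exact Tr.refute hp hg t Z (v :: N) hZ (fun w hw => by
        rcases List.mem_cons.1 hw with rfl | hw
        · exact h0
        · exact hN w hw) h.2

end Cfsg.Agent.H996.L16
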